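import Groth.Prelude.Def_LefMon
import Groth.Agent.EtMVLib.OpenSeq
import Groth.Agent.EtMVLib.ExtTools
import Groth.Agent.EtDerLib.HpullNat

/-!
# Pullback maps on etale cohomology compose
-/

universe u

open CategoryTheory CategoryTheory.Limits AlgebraicGeometry Opposite CategoryTheory.Abelian

namespace Groth.Agent.EtAdic69

set_option backward.isDefEq.respectTransparency.types false

open EtMVLib

variable {U X W : Scheme.{u}} (j : U ⟶ X) (w : W ⟶ X) (k : W ⟶ U) (e : k ≫ j = w)

theorem pullConst_comp (M : Type) [AddCommGroup M] :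
    (EtCore.pullConst k M).inv ≫ (EtCoh.pull k).map (EtCore.pullConst j M).inv ≫
      (θ j w k e).hom.app (EtCoh.const X M) = (EtCore.pullConst w M).inv := by
  apply ((EtCore.constAdj W).homEquiv _ _).injective
  have n1 := (pullSec k).naturality (EtCore.pullConst j M).inv
  have hU : (EtCore.constAdj U).unit.app (AddCommGrpCat.of (ULift.{u + 1} M)) ≫
      (EtCore.gsec U).map (EtCore.pullConst j M).inv = _ :=
    ((EtCore.constAdj U).homEquiv_unit _ _ (EtCore.pullConst j M).inv).symm.trans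
      (homEquiv_pullConst_inv j M)
  set c := (EtCore.pullConst j M).inv
  set t := (θ j w k e).hom.app (EtCoh.const X M)
  refine ((EtCore.constAdj W).homEquiv_naturality_right _ _).trans ?_
  refine (eq_whisker (homEquiv_pullConst_inv k M) _).trans ?_
  refine (whisker_eq _ (Functor.map_comp (EtCore.gsec W) _ _)).trans ?_
  refine ((Category.assoc _ _ _).trans (whisker_eq _
    ((Category.assoc _ _ _).symm.trans (eq_whisker n1.symm _)))).trans ?_
  refine ((whisker_eq _ (Category.assoc _ _ _)).trans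
    ((Category.assoc _ _ _).symm.trans (eq_whisker hU _))).trans ?_
  refine ((Category.assoc _ _ _).trans (whisker_eq _ (pullSec_θ j w k e _))).trans ?_
  exact (homEquiv_pullConst_inv w M).symm

theorem pullConst_comp_hom (M : Type) [AddCommGroup M] :
    (θ j w k e).hom.app (EtCoh.const X M) ≫ (EtCore.pullConst w M).hom =
      (EtCoh.pull k).map (EtCore.pullConst j M).hom ≫ (EtCore.pullConst k M).hom := by
  have hK : (EtCoh.pull k).map (EtCore.pullConst j M).hom ≫ (EtCoh.pull k).map (EtCore.pullConst j M).inv = 𝟙 _ := by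
    rw [← CategoryTheory.Functor.map_comp, Iso.hom_inv_id, CategoryTheory.Functor.map_id]
  refine (cancel_mono (EtCore.pullConst w M).inv).1 ?_
  simp only [Category.assoc, Iso.hom_inv_id]
  rw [← pullConst_comp j w k e M, Category.comp_id, Iso.hom_inv_id_assoc]
  exact ((Category.assoc _ _ _).symm.trans ((eq_whisker hK _).trans (Category.id_comp _))).symm

theorem Hpull_Hpull [PreservesFiniteLimits (EtCoh.pull j)] [PreservesFiniteLimits (EtCoh.pull k)]
    [PreservesFiniteLimits (EtCoh.pull w)] (G : EtCoh.Ab X) (n : ℕ) (x : EtCoh.H X G n) :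
    (EtCore.Hpull k ((EtCoh.pull j).obj G) n (EtCore.Hpull j G n x)).comp
      (Ext.mk₀ ((θ j w k e).hom.app G)) (add_zero n) = EtCore.Hpull w G n x := by
  have : PreservesFiniteLimits (EtCoh.pull j ⋙ EtCoh.pull k) := comp_preservesFiniteLimits _ _
  have : PreservesFiniteColimits (EtCoh.pull j ⋙ EtCoh.pull k) := comp_preservesFiniteColimits _ _
  have h := mapExactFunctor_natTrans (EtCoh.pull j ⋙ EtCoh.pull k) (EtCoh.pull w) (θ j w k e).hom x
  rw [mapExactFunctor_functorComp] at h
  rw [Hpull_apply, Hpull_apply, Hpull_apply, Ext.mapExactFunctor_comp, Ext.mapExactFunctor_mk₀,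
    ← pullConst_comp j w k e ℤ, ← Ext.mk₀_comp_mk₀, ← Ext.mk₀_comp_mk₀,
    Ext.comp_assoc_of_second_deg_zero, Ext.comp_assoc_of_second_deg_zero,
    Ext.comp_assoc_of_third_deg_zero, Ext.comp_assoc_of_third_deg_zero]
  exact congrArg (fun t => (Ext.mk₀ _).comp ((Ext.mk₀ _).comp t (zero_add n)) (zero_add n)) h

/-- pullback maps on `H^r(-, ℤ/ℓ^ν)` compose -/
theorem Hmap_comp (ℓ r ν : ℕ) (hj : PreservesFiniteLimits (EtCoh.pull j))
    (hk : PreservesFiniteLimits (EtCoh.pull k)) (hw : PreservesFiniteLimits (EtCoh.pull w))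
    (e : k ≫ j = w) (x : EtAdic.Hmod X ℓ r ν) :
    EtAdic.Hmap ℓ w hw r ν x = EtAdic.Hmap ℓ k hk r ν (EtAdic.Hmap ℓ j hj r ν x) := by
  let M := ZMod (ℓ ^ ν)
  show (EtCore.Hpull w (EtCoh.const X M) r x).comp (Ext.mk₀ (EtCore.pullConst w M).hom) (add_zero r) =
    (EtCore.Hpull k (EtCoh.const U M) r ((EtCore.Hpull j (EtCoh.const X M) r x).comp
      (Ext.mk₀ (EtCore.pullConst j M).hom) (add_zero r))).comp (Ext.mk₀ (EtCore.pullConst k M).hom) (add_zero r)
  rw [EtDerLib.Hpull_natural, ← Hpull_Hpull j w k e, Ext.comp_assoc_of_second_deg_zero,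
    Ext.comp_assoc_of_second_deg_zero, Ext.mk₀_comp_mk₀, Ext.mk₀_comp_mk₀, pullConst_comp_hom]

/-- pullback maps only depend on the morphism -/
theorem Hmap_congr (ℓ r ν : ℕ) {f g : U ⟶ X} (h : f = g) (hf : PreservesFiniteLimits (EtCoh.pull f))
    (hg : PreservesFiniteLimits (EtCoh.pull g)) (x : EtAdic.Hmod X ℓ r ν) :
    EtAdic.Hmap ℓ f hf r ν x = EtAdic.Hmap ℓ g hg r ν x := by
  subst h
  rfl

end Groth.Agent.EtAdic69
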